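import Groth.Agent.RuledPushLib.Main
import Groth.Agent.ProjBundleLib.RelProjQuot
import Groth.Agent.HodgePnLib.Field
import Groth.Agent.PBundleLib.Twists
import Groth.Agent.CastLib.EulerFlat

/-!
# Direct image of a line bundle which is `O(1)` on closed fibres that are projective spaces
-/

set_option autoImplicit false
set_option backward.isDefEq.respectTransparency false
set_option backward.isDefEq.respectTransparency.types false
set_option linter.style.haveILetI false
set_option linter.unusedSectionVars false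
set_option maxHeartbeats 1600000
set_option synthInstance.maxHeartbeats 200000

universe u

open CategoryTheory CategoryTheory.Limits AlgebraicGeometry TopologicalSpace Opposite
open Groth.Agent.PullbackMod Groth.Agent.ParaFLib Groth.Agent.AmpleLib Groth.Agent.AmpleEmb

noncomputable section

namespace Groth.Agent.FibBundleLib

variable {C B : Scheme.{u}} (π : C ⟶ B) (L : C.Modules) (r : ℕ)

/-- The fibre is `P^r` over the residue field and the module is `O(1)` there. -/
def FibData (b : B) : Prop :=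
  ∃ e : π.fiber b ≅ CohB1.ProjSpace r (B.residueField b),
    e.hom ≫ CohB1.ProjSpace.toSpec r (B.residueField b) = π.fiberToSpecResidueField b ∧
    Nonempty ((Scheme.Modules.pullback (π.fiberι b)).obj L ≅
      (Scheme.Modules.pullback e.hom).obj (Twist.twistProjSpace r (B.residueField b) 1))

variable {π L r} [IsProper π] (hL : PicF.IsInvertible L) {b : B} (h : FibData π L r b)

include hL h in
theorem subsingleton_fiberH (p : ℕ) : Subsingleton (CohIII.fiberH π L b (p + 1)) := by
  obtain ⟨e, -, ⟨i⟩⟩ := h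
  refine PBundleLib.subsingleton_HH_of_isIso e.inv (M := (Scheme.Modules.pullback (π.fiberι b)).obj L)
    (CurveLib.isFinLocFree_of_isInvertible (AmpleLib.isInvertible_pullback _ hL)) (p + 1) ?_
  refine CurveLib.subsingleton_HH_iso ?_ (p + 1)
    (ProjTwist.subsingleton_HH_pos (n := r) (R := B.residueField b) 1 p (Or.inl (by omega)))
  exact ((Scheme.Modules.pullback e.inv).mapIso i ≪≫ (Scheme.Modules.pullbackComp e.inv e.hom).app _ ≪≫
    (Scheme.Modules.pullbackCongr e.inv_hom_id).app _ ≪≫ (Scheme.Modules.pullbackId _).app _).symm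

include hL h in
theorem fiberRank_eq : CohIII.fiberRank π L 0 b = r + 1 := by
  obtain ⟨e, he, ⟨i⟩⟩ := h
  letI : (π.fiber b).Over (Spec (CommRingCat.of (B.residueField b))) := ⟨π.fiberToSpecResidueField b⟩
  haveI : IsProper (FormalLib.str (B.residueField b) (π.fiber b)) :=
    inferInstanceAs (IsProper (pullback.snd π (B.fromSpecResidueField b)))
  haveI : Coh.IsQCoh L := InvExt.isQCoh_of_isInvertible hL
  haveI : Coh.IsQCoh (CohIII.fiberMod π L b) := PullbackMod.isQCoh_pullback _ L
  have hc : IsPullback e.inv (FormalLib.str (B.residueField b) (CohB1.ProjSpace r (B.residueField b)))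
      (FormalLib.str (B.residueField b) (π.fiber b)) (Spec.map (𝟙 (CommRingCat.of (B.residueField b)))) :=
    IsPullback.of_horiz_isIso ⟨by
      rw [Spec.map_id, Category.comp_id]
      show e.inv ≫ π.fiberToSpecResidueField b = CohB1.ProjSpace.toSpec r (B.residueField b)
      rw [← he, Iso.inv_hom_id_assoc]⟩
  have h1 := BCLib.finrank_HH_fieldExt hc (CohIII.fiberMod π L b) 0
    (G' := Twist.twistProjSpace r (B.residueField b) 1)
    ((Scheme.Modules.pullback e.inv).mapIso i ≪≫ (Scheme.Modules.pullbackComp e.inv e.hom).app _ ≪≫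
      (Scheme.Modules.pullbackCongr e.inv_hom_id).app _ ≪≫ (Scheme.Modules.pullbackId _).app _)
  refine Eq.trans (show CohIII.fiberRank π L 0 b = _ from h1.symm) ?_
  obtain ⟨j⟩ := ProjTwist.nonempty_H0 r (B.residueField b) 1
  refine j.finrank_eq.trans ((S4466.finrank_forms (B.residueField b) r 1).trans ?_)
  simp [Nat.choose_succ_self_right, add_comm]

variable [LocallyOfFinitePresentation π] [Flat π]

include hL h in
/-- Near a closed fibre the direct image is free of rank `r + 1`. -/
theorem exists_free_nhd : ∃ U : B.Opens, b ∈ U ∧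
    FlatMod.IsFinLocFree (((Scheme.Modules.pushforward π).obj L).restrict U.ι) ∧
    PullbackMod.FreeAt (r + 1) ((Scheme.Modules.pushforward π).obj L) b := by
  have hlf := CurveLib.isFinLocFree_of_isInvertible hL
  obtain ⟨hq, hfp⟩ := PullbackMod.isQCoh_and_isFP_of_isFinLocFree _ hlf
  haveI : Coh.IsQCoh L := hq
  haveI : HasInjectiveResolutions C.Modules := inferInstance
  obtain ⟨V, D, hs⟩ := GenBCLib.exists_dat_at hfp (TildePerf.isFlatOver_of_isFinLocFree π hlf) b
  obtain ⟨a, ha, -, hsa, -⟩ := D.exists_vanish hs (n := 1) (subsingleton_fiberH hL h 0)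
  exact ⟨_, ha, D.isFinLocFree_restrict_of_good hsa, fiberRank_eq hL h ▸ D.freeAt_of_good ha hsa⟩

include hL h in
/-- At a point of a closed fibre some section over a neighbourhood in the base generates. -/
theorem exists_gen_at (x : C) (hx : π x = b) :
    ∃ (V : B.Opens) (_ : π x ∈ V) (t : Γ(L, π ⁻¹ᵁ V)) (O : C.Opens), x ∈ O ∧
      ∃ hle : O ≤ π ⁻¹ᵁ V, Gen O (L.presheaf.map (homOfLE hle).op t) := by
  haveI : Coh.IsQCoh L := InvExt.isQCoh_of_isInvertible hL
  haveI := GenSeesawLib.isIso_bc0_fibre π (CurveLib.isFinLocFree_of_isInvertible hL) b (subsingleton_fiberH hL h 0)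
  obtain ⟨z, rfl⟩ : x ∈ Set.range (π.fiberι b) := by rw [π.range_fiberι b]; exact hx
  obtain ⟨e, -, ⟨i⟩⟩ := h
  obtain ⟨a, hza⟩ := Opens.mem_iSup.1 ((iSup_stdOpen r (B.residueField b)).ge (Opens.mem_top (e.hom z)))
  let g' := π.fiberι b
  let f' := π.fiberToSpecResidueField b
  let g := B.fromSpecResidueField b
  let M := (Scheme.Modules.pushforward π).obj L
  haveI : Coh.IsQCoh M := QCohLib.isQCoh_pushforward L π
  let σ := pullS e.hom (coordSec r (B.residueField b) a) ≫ i.inv
  let τ : Γ((Scheme.Modules.pullback g').obj L, ⊤) := sec σ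
  have hτ : Function.Bijective fun c : (π.fiber b).presheaf.stalk z =>
      c • ((Scheme.Modules.pullback g').obj L).presheaf.germ ⊤ z trivial τ := by
    refine (mem_genLocus_iff (AmpleLib.isInvertible_pullback g' hL)).1 ?_
    show z ∈ CohB1.genLocus _ (pullS e.hom (coordSec r (B.residueField b) a) ≫ i.symm.hom)
    rw [genLocus_comp_iso, genLocus_pullS e.hom (isInvertible_twistOne r _), genLocus_coordSec]
    exact hza
  let bc := CohBC.bc0 π g f' g' (π.fiber_fac b) L
  obtain ⟨xb, hxb⟩ := GenBCLib.surjective_top_of_epi bc (show Γ((Scheme.Modules.pushforward f').obj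
    ((Scheme.Modules.pullback g').obj L), ⊤) from τ)
  obtain ⟨_, ⟨V : B.Opens, (hV : IsAffineOpen V), rfl⟩, hyV, -⟩ :=
    B.isBasis_affineOpens.exists_subset_of_mem_open (Set.mem_univ b) isOpen_univ
  let le0 := GenBCLib.le_preimage_fromSpecResidueField hyV
  obtain ⟨c, t, hc, ht⟩ := GenSeesawLib.exists_smul_eq_pullMap (M := M) hV hyV xb
  have le : f' ⁻¹ᵁ ⊤ ≤ g' ⁻¹ᵁ (π ⁻¹ᵁ V) := by
    intro w _
    show π (g' w) ∈ V
    rw [← Scheme.Hom.comp_apply, π.fiber_fac b, Scheme.Hom.comp_apply]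
    exact le0 trivial
  have key : pullMap g' L le t = f'.app ⊤ (g.appLE V ⊤ le0 c) •
      (show Γ((Scheme.Modules.pullback g').obj L, f' ⁻¹ᵁ ⊤) from τ) := by
    have h2 := congrArg (bc.app ⊤) ht
    rw [GenBCLib.bc0_pullMap (π.fiber_fac b) L le0 le t, Scheme.Modules.Hom.app_smul, hxb] at h2
    exact h2.symm
  have hxV : g' z ∈ π ⁻¹ᵁ V := le (show z ∈ f' ⁻¹ᵁ ⊤ from trivial)
  refine ⟨V, hxV, t, ?_⟩
  obtain ⟨W, r₀, hxW, hr₀⟩ := ParaFLib.exists_gen_nhd hL (g' z)
  let O := W ⊓ π ⁻¹ᵁ V
  have hO := hr₀.res (inf_le_left : O ≤ W)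
  obtain ⟨s, hs⟩ := (hO O le_rfl).2 (L.presheaf.map (homOfLE (inf_le_right : O ≤ π ⁻¹ᵁ V)).op t)
  simp only [ParaFLib.res_res] at hs
  set e₀ := L.presheaf.germ O (g' z) ⟨hxW, hxV⟩ (L.presheaf.map (homOfLE (inf_le_left : O ≤ W)).op r₀)
  have he₀ := hO.bijective_germ (g' z) ⟨hxW, hxV⟩
  set q := C.presheaf.germ O (g' z) ⟨hxW, hxV⟩ s with hq
  have hta : q • e₀ = L.presheaf.germ (π ⁻¹ᵁ V) (g' z) hxV t := by
    rw [hq, ← germ_smul', hs, TopCat.Presheaf.germ_res_apply]
  have key' : g'.stalkMap z q • pullStalk g' L z e₀ =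
      (π.fiber b).presheaf.germ (f' ⁻¹ᵁ ⊤) z trivial (f'.app ⊤ (g.appLE V ⊤ le0 c)) •
        ((Scheme.Modules.pullback g').obj L).presheaf.germ (f' ⁻¹ᵁ ⊤) z trivial τ := by
    rw [← pullStalk_smul, hta, pullStalk_germ' g' L z hxV (W' := f' ⁻¹ᵁ ⊤) trivial le, key, germ_smul']
  have hbij := bijective_pullStalk g' z he₀
  have h2 : Function.Bijective fun w : (π.fiber b).presheaf.stalk z => w • g'.stalkMap z q • pullStalk g' L z e₀ := by
    rw [key']
    exact (AmpleLib.bijective_smul_iff hτ _).2 (((hc.map (f'.app ⊤).hom)).map _)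
  have hau : IsUnit q :=
    isUnit_of_map_unit (g'.stalkMap z).hom q ((AmpleLib.bijective_smul_iff hbij _).1 h2)
  refine ⟨C.basicOpen s, (C.mem_basicOpen s _ _).2 hau, (C.basicOpen_le s).trans inf_le_right, ?_⟩
  have hO' := hO.res (C.basicOpen_le s)
  have := hO'.smul (a := C.presheaf.map (homOfLE (C.basicOpen_le s)).op s)
    (C.toRingedSpace.isUnit_res_basicOpen s)
  rw [← L.map_smul, hs] at this
  refine (congrArg (Gen (C.basicOpen s)) ?_).mp this
  exact ConcreteCategory.congr_hom (L.presheaf.map_comp _ _).symm t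

variable (hfib : ∀ s : B, ∃ y : B, s ⤳ y ∧ FibData π L r y)

include hL hfib in
theorem isFinLocFreeOfRank_push : FlatMod.IsFinLocFreeOfRank (r + 1) ((Scheme.Modules.pushforward π).obj L) := by
  haveI : Coh.IsQCoh L := InvExt.isQCoh_of_isInvertible hL
  haveI : Coh.IsQCoh ((Scheme.Modules.pushforward π).obj L) := QCohLib.isQCoh_pushforward L π
  have hfree : FlatMod.IsFinLocFree ((Scheme.Modules.pushforward π).obj L) :=
    GenBCLib.isFinLocFree_of_nhds _ fun s => by
      obtain ⟨y, hsy, hy⟩ := hfib s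
      obtain ⟨U, hyU, hU, -⟩ := exists_free_nhd hL hy
      exact ⟨U, hsy.mem_open U.2 hyU, hU⟩
  refine (PullbackMod.isFinLocFreeOfRank_iff_freeAt _ (PullbackMod.isQCoh_and_isFP_of_isFinLocFree _ hfree).2 _).2
    fun s => ?_
  obtain ⟨y, hsy, hy⟩ := hfib s
  obtain ⟨W, m, hyW, ⟨i⟩⟩ := hfree y
  obtain ⟨U, hyU, -, hU⟩ := exists_free_nhd hL hy
  obtain rfl := PullbackMod.freeAt_unique _ hU (PullbackMod.freeAt_of_restrict_iso _ i hyW)
  exact PullbackMod.freeAt_of_restrict_iso _ i (hsy.mem_open W.2 hyW)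

include hL hfib in
theorem epi_counit : Epi ((Scheme.Modules.pullbackPushforwardAdjunction π).counit.app L) := by
  refine ProjBundleLib.epi_counit_of_span π L fun x => ?_
  obtain ⟨y, hxy, hy⟩ := hfib (π x)
  have hcl : y ∈ π '' closure {x} :=
    (π.isClosedMap _ isClosed_closure).closure_subset
      (closure_mono (Set.singleton_subset_iff.2 (Set.mem_image_of_mem π (subset_closure (Set.mem_singleton x))))
        (specializes_iff_mem_closure.1 hxy))
  obtain ⟨x', hx', hx'y⟩ := hcl
  obtain ⟨V, hV, t, O, hxO, hle, hgen⟩ := exists_gen_at hL hy x' hx'y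
  have hxO' : x ∈ O := (specializes_iff_mem_closure.2 hx').mem_open O.2 hxO
  refine ⟨V, hle hxO', eq_top_iff.2 fun w _ => ?_⟩
  obtain ⟨c, rfl⟩ := (hgen.bijective_germ x hxO').2 w
  refine Submodule.smul_mem _ c (Submodule.subset_span ⟨t, ?_⟩)
  exact (TopCat.Presheaf.germ_res_apply L.presheaf (homOfLE hle) x hxO' t).symm

end Groth.Agent.FibBundleLib
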