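import Groth.Agent.FibBundleLib.EndoIso
import Groth.Agent.FibBundleLib.Push
import Groth.Agent.FibIsoOpen.Basic
import Groth.Agent.PBundleLib.Atlas
import Groth.Agent.GrassShLib.Props
import Groth.Agent.GenSeesawLib.ProjFibre
import Groth.Prelude.Def_GrassD

/-!
# A family of projective spaces with a relative `O(1)` is a projective bundle
-/

set_option autoImplicit false
set_option backward.isDefEq.respectTransparency false
set_option backward.isDefEq.respectTransparency.types false
set_option linter.style.haveILetI false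
set_option linter.unusedSectionVars false
set_option maxHeartbeats 1600000
set_option synthInstance.maxHeartbeats 200000

universe u

open CategoryTheory CategoryTheory.Limits AlgebraicGeometry TopologicalSpace Opposite
open Groth.Agent.GrassShLib Groth.Agent.FlagLib

noncomputable section

namespace Groth.Agent.FibBundleLib

/-- Projective space over a ring maps to relative projective space over any point valued in the ring. -/
theorem exists_pnMap (r : ℕ) (S : Scheme.{u}) (K : Type u) [CommRing K] (v : Spec (CommRingCat.of K) ⟶ S) :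
    ∃ m : CohB1.ProjSpace r K ⟶ CohB1.ProjSpaceOver r S,
      IsPullback m (CohB1.ProjSpace.toSpec r K) (CohB1.ProjSpaceOver.toBase r S) v ∧
      Nonempty ((Scheme.Modules.pullback m).obj (Twist.twistOver r S 1) ≅ Twist.twistProjSpace r K 1) := by
  letI := GenSeesawLib.intAlg K
  have h1 := GenSeesawLib.isPullback_bcMap r (ULift.{u} ℤ) K
  have ev : Spec.map (CommRingCat.ofHom (algebraMap (ULift.{u} ℤ) K)) = v ≫ specULiftZIsTerminal.from S :=
    specULiftZIsTerminal.hom_ext _ _
  rw [ev] at h1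
  let m : CohB1.ProjSpace r K ⟶ CohB1.ProjSpaceOver r S :=
    pullback.lift (GenSeesawLib.bcMap r (ULift.{u} ℤ) K) (CohB1.ProjSpace.toSpec r K ≫ v)
      (h1.w.trans (Category.assoc _ _ _).symm)
  have hm1 : m ≫ pullback.fst (CohB1.ProjSpace.toSpec r (ULift.{u} ℤ)) (specULiftZIsTerminal.from S) =
      GenSeesawLib.bcMap r (ULift.{u} ℤ) K := pullback.lift_fst _ _ _
  refine ⟨m, IsPullback.of_right (t := IsPullback.of_hasPullback _ _) (hm1.symm ▸ h1) (pullback.lift_snd _ _ _), ?_⟩
  obtain ⟨i⟩ := GenSeesawLib.nonempty_iso_pullback_twistOne r (ULift.{u} ℤ) K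
  exact ⟨(Scheme.Modules.pullbackComp m _).app _ ≪≫ (Scheme.Modules.pullbackCongr hm1).app _ ≪≫ i.symm⟩

variable {P B : Scheme.{u}} {r : ℕ}

/-- The fibres of a projective bundle. -/
theorem fibData_of_chart {p : P ⟶ B} {E : B.Modules} {O1 : P.Modules} (c : PBundleLib.Chart r p E O1) (b : B)
    (hb : b ∈ Set.range c.ψ) : FibData p O1 r b := by
  let v : Spec (B.residueField b) ⟶ Spec c.R := IsOpenImmersion.lift c.ψ (B.fromSpecResidueField b)
    (by rw [Scheme.range_fromSpecResidueField]; exact Set.singleton_subset_iff.2 hb)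
  obtain ⟨m, hm, ⟨τ⟩⟩ := exists_pnMap r (Spec c.R) (B.residueField b) v
  obtain ⟨θ⟩ := c.twist
  have big : IsPullback (m ≫ c.θ) (CohB1.ProjSpace.toSpec r (B.residueField b)) p (B.fromSpecResidueField b) := by
    have h := hm.paste_horiz c.sq
    rwa [IsOpenImmersion.lift_fac] at h
  have hf : IsPullback (p.fiberι b) (p.fiberToSpecResidueField b) p (B.fromSpecResidueField b) :=
    IsPullback.of_hasPullback p _
  refine ⟨hf.isoIsPullback _ _ big, hf.isoIsPullback_hom_snd _ _ big, ⟨?_⟩⟩
  exact (Scheme.Modules.pullbackCongr (hf.isoIsPullback_hom_fst _ _ big)).symm.app O1 ≪≫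
    (Scheme.Modules.pullbackComp (hf.isoIsPullback _ _ big).hom (m ≫ c.θ)).symm.app O1 ≪≫
    (Scheme.Modules.pullback (hf.isoIsPullback _ _ big).hom).mapIso
      ((Scheme.Modules.pullbackComp m c.θ).symm.app O1 ≪≫ (Scheme.Modules.pullback m).mapIso θ ≪≫ τ)

variable {C : Scheme.{u}} (h : C ⟶ P) (p : P ⟶ B) {L : C.Modules} {O1 : P.Modules}

/-- A map of families of projective spaces respecting `O(1)` is an isomorphism. -/
theorem isIso_of_fibData [IsProper (h ≫ p)] [LocallyOfFinitePresentation (h ≫ p)] [Flat (h ≫ p)] [IsProper p]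
    (e : (Scheme.Modules.pullback h).obj O1 ≅ L) (hC : ∀ s : B, ∃ y : B, s ⤳ y ∧ FibData (h ≫ p) L r y)
    (hP : ∀ b : B, FibData p O1 r b) : IsIso h := by
  have key : ∀ b : B, FibData (h ≫ p) L r b → ∃ U : B.Opens, b ∈ U ∧ IsIso (h ∣_ (p ⁻¹ᵁ U)) := fun b hb => by
    obtain ⟨eC, hC1, ⟨iC⟩⟩ := hb
    obtain ⟨eP, hP1, ⟨iP⟩⟩ := hP b
    let w := MoreMor.fiberMap h p b
    have w1 : w ≫ p.fiberι b = (h ≫ p).fiberι b ≫ h := pullback.lift_fst _ _ _
    have w2 : w ≫ p.fiberToSpecResidueField b = (h ≫ p).fiberToSpecResidueField b :=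
      pullback.lift_snd _ _ _
    haveI : IsIso (eC.inv ≫ w ≫ eP.hom) := by
      refine isIso_of_pullback_twist _ ?_ ⟨?_⟩
      · rw [Category.assoc, Category.assoc, hP1, w2, ← hC1, Iso.inv_hom_id_assoc]
      · let O := Twist.twistProjSpace r (B.residueField b) 1
        exact (Scheme.Modules.pullbackComp eC.inv (w ≫ eP.hom)).symm.app O ≪≫
          (Scheme.Modules.pullback eC.inv).mapIso ((Scheme.Modules.pullbackComp w eP.hom).symm.app O ≪≫
            (Scheme.Modules.pullback w).mapIso iP.symm ≪≫ (Scheme.Modules.pullbackComp w _).app O1 ≪≫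
            (Scheme.Modules.pullbackCongr w1).app O1 ≪≫ (Scheme.Modules.pullbackComp _ h).symm.app O1 ≪≫
            (Scheme.Modules.pullback _).mapIso e ≪≫ iC) ≪≫
          (Scheme.Modules.pullbackComp eC.inv eC.hom).app O ≪≫
          (Scheme.Modules.pullbackCongr eC.inv_hom_id).app O ≪≫ (Scheme.Modules.pullbackId _).app O
    haveI : IsIso w := by
      rw [show w = eC.hom ≫ (eC.inv ≫ w ≫ eP.hom) ≫ eP.inv by simp]
      infer_instance
    exact FibIsoOpen.exists_nhd h p b
  choose U hbU hU using key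
  show MorphismProperty.isomorphisms Scheme.{u} h
  refine (IsZariskiLocalAtTarget.iff_of_iSup_eq_top (P := MorphismProperty.isomorphisms Scheme.{u})
    (fun b : {b : B // FibData (h ≫ p) L r b} => p ⁻¹ᵁ U b.1 b.2) (eq_top_iff.2 fun x _ => ?_)).2 fun b => hU b.1 b.2
  obtain ⟨y, hxy, hy⟩ := hC (p x)
  exact Opens.mem_iSup.2 ⟨⟨y, hy⟩, hxy.mem_open (U y hy).2 (hbU y hy)⟩

/-- Projective bundles along isomorphisms. -/
theorem isProjBundle_of_iso {E : B.Modules} {qP : (Scheme.Modules.pullback p).obj E ⟶ O1}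
    (hPB : KRR.IsProjBundle p E O1 qP) [IsIso h] {π : C ⟶ B} (hh : h ≫ p = π)
    (e : (Scheme.Modules.pullback h).obj O1 ≅ L) (hL : FlatMod.IsFinLocFreeOfRank 1 L)
    {q : (Scheme.Modules.pullback π).obj E ⟶ L} [Epi q] (he : qb qP hh ≫ e.hom = q) :
    KRR.IsProjBundle π E L q := by
  have hG := (Grass.isGrass_one_iff).2 hPB
  refine (Grass.isGrass_one_iff).1 ⟨hL, inferInstance, fun T g M hM s hs => ?_⟩
  obtain ⟨f, ⟨hf, ef, hef⟩, huniq⟩ := hG.univ T g M hM s hs
  have key : ∀ (k : T ⟶ C) (f' : T ⟶ P) (hk : k ≫ h = f') (hk1 : k ≫ π = g) (hk2 : f' ≫ p = g),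
      IsIso (qb e.hom hk) ∧ qb q hk1 = qb qP hk2 ≫ qb e.hom hk := fun k f' hk hk1 hk2 => by
    refine ⟨?_, by rw [← he]; exact qb_qb qP hh hk hk1 hk2 e.hom⟩
    subst hk
    rw [qb_rfl]
    infer_instance
  have hf' : (f ≫ inv h) ≫ π = g := by rw [← hh]; simpa using hf
  obtain ⟨hi, hq⟩ := key (f ≫ inv h) f (by simp) hf' hf
  haveI := hi
  refine ⟨f ≫ inv h, ⟨hf', (asIso (qb e.hom (show (f ≫ inv h) ≫ h = f by simp))).symm ≪≫ ef, ?_⟩,
    fun k ⟨hk, e', he'⟩ => ?_⟩
  · show qb q hf' ≫ _ = s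
    rw [hq]
    simp only [Iso.trans_hom, Iso.symm_hom, asIso_inv, Category.assoc, IsIso.hom_inv_id_assoc]
    exact hef
  · have hk2 : (k ≫ h) ≫ p = g := by rw [Category.assoc, hh, hk]
    obtain ⟨hi', hq'⟩ := key k (k ≫ h) rfl hk hk2
    haveI := hi'
    have := huniq (k ≫ h) ⟨hk2, asIso (qb e.hom (rfl : k ≫ h = k ≫ h)) ≪≫ e', by
      show qb qP hk2 ≫ qb e.hom _ ≫ e'.hom = s
      rw [← Category.assoc, ← hq']
      exact he'⟩
    rw [← this, Category.assoc, IsIso.hom_inv_id, Category.comp_id]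

/-- The family is the projective bundle of the direct image, with the counit as quotient. -/
theorem isProjBundle_push {C B : Scheme.{u}} (π : C ⟶ B) [IsProper π] [LocallyOfFinitePresentation π] [Flat π]
    {L : C.Modules} (hL : PicF.IsInvertible L) (r : ℕ) (hfib : ∀ s : B, ∃ y : B, s ⤳ y ∧ FibData π L r y) :
    KRR.IsProjBundle π ((Scheme.Modules.pushforward π).obj L) L
      ((Scheme.Modules.pullbackPushforwardAdjunction π).counit.app L) := by
  let E := (Scheme.Modules.pushforward π).obj L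
  let q := (Scheme.Modules.pullbackPushforwardAdjunction π).counit.app L
  have hE : FlatMod.IsFinLocFreeOfRank (r + 1) E := isFinLocFreeOfRank_push hL hfib
  haveI hq : Epi q := epi_counit hL hfib
  haveI hqc : Coh.IsQCoh E :=
    (PullbackMod.isQCoh_and_isFP_of_isFinLocFree E fun x => (hE x).imp fun U hU => ⟨r + 1, hU⟩).1
  obtain ⟨P, p, O1, φ, ⟨D⟩⟩ := ProjBundleLib.exists_bundle hqc
  have hPB := PBundleLib.isProjBundle_of_pdata D
  have hL1 := CurveLib.isFinLocFreeOfRank_one hL
  obtain ⟨h, ⟨hh, e, he⟩, -⟩ := hPB.univ C π L hL1 q hq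
  haveI : IsProper p := PBundleLib.isProper_of_charts fun x => PBundleLib.exists_chart hE hPB x
  have hiso : IsIso h := by
    subst hh
    refine isIso_of_fibData h p e hfib fun b => ?_
    obtain ⟨c, hc⟩ := PBundleLib.exists_chart hE hPB b
    exact fibData_of_chart c b hc
  haveI := hiso
  refine isProjBundle_of_iso h p hPB hh e hL1 ?_
  simp only [qb, Grass.quotBC, Category.assoc]
  exact he

/-- **Main theorem.** A proper flat family with fibres (one over a specialisation of each point) are projective spaces on which an invertible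
module is `O(1)` is the projective bundle of the direct image. -/
theorem exists_isProjBundle {C B : Scheme.{u}} (π : C ⟶ B) [IsProper π] [LocallyOfFinitePresentation π] [Flat π]
    {L : C.Modules} (hL : PicF.IsInvertible L) (r : ℕ) (hfib : ∀ s : B, ∃ y : B, s ⤳ y ∧ FibData π L r y) :
    ∃ (E : B.Modules) (q : (Scheme.Modules.pullback π).obj E ⟶ L),
      FlatMod.IsFinLocFreeOfRank (r + 1) E ∧ KRR.IsProjBundle π E L q :=
  ⟨_, _, isFinLocFreeOfRank_push hL hfib, isProjBundle_push π hL r hfib⟩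

end Groth.Agent.FibBundleLib
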