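import Groth.Agent.PnAutLib.Surj

/-!
# Endomorphisms of projective space preserving `O(1)` are automorphisms
-/

set_option autoImplicit false
set_option backward.isDefEq.respectTransparency false
set_option backward.isDefEq.respectTransparency.types false
set_option linter.style.haveILetI false
set_option maxHeartbeats 1000000

universe u

open CategoryTheory AlgebraicGeometry TopologicalSpace Opposite
open Groth.Agent Groth.Agent.AmpleLib Groth.Agent.AmpleEmb Groth.Agent.PicProjLib Groth.Agent.ParaFLib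
open Groth.Agent.PullbackMod Groth.Agent.DCohLib Groth.Agent.ProjCoh Groth.Agent.PnAutLib

noncomputable section

namespace Groth.Agent.FibBundleLib

variable {K : Type u} [Field K] {n : ℕ}

local notation "ℙn" => CohB1.ProjSpace n K

theorem stalkLin_iso_injective {Z : Scheme.{u}} {A B : Z.Modules} (e : A ≅ B) (z : Z) :
    Function.Bijective (stalkLin e.hom z) :=
  (isIso_iff_stalk e.hom).1 inferInstance z

theorem toSpec_compat {A : Type u} [CommRing A] {y : CohB1.ProjSpace n K}
    (ψ : (CohB1.ProjSpace n K).presheaf.stalk y ⟶ CommRingCat.of A) [Algebra K A]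
    (h : (Spec.map ψ ≫ (ℙn).fromSpecStalk y) ≫ CohB1.ProjSpace.toSpec n K =
      Spec.map (CommRingCat.ofHom (algebraMap K A))) (r : K) :
    ψ (stalkCst y r) = algebraMap K A r := by
  rw [Category.assoc, fromSpecStalk_toSpec, ← Spec.map_comp] at h
  exact DFunLike.congr_fun (congrArg CommRingCat.Hom.hom (Spec.map_injective h)) r

/-- The matrix of the pullback on sections of `O(1)` has no kernel. -/
theorem mulVec_ne_zero (g : ℙn ⟶ ℙn)
    (ξ : (Scheme.Modules.pullback g).obj (Twist.twistProjSpace n K 1) ≅ Twist.twistProjSpace n K 1)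
    (M : Matrix (Fin (n + 1)) (Fin (n + 1)) K)
    (hM : ∀ b, ξ.hom.app ⊤ (sec (pullS g (coordSec n K b))) =
      ∑ a, ProjCoh.projφ (CohB1.polyGrading n K) (M b a) • sec (coordSec n K a))
    (v : Fin (n + 1) → K) (hv : v ≠ 0) : Matrix.mulVec M v ≠ 0 := by
  intro h0
  obtain ⟨c, hc⟩ : ∃ c, v c ≠ 0 := Function.ne_iff.1 hv
  let p : Spec (CommRingCat.of K) ⟶ ℙn := ProjMap.point (R := K) v c (IsUnit.mk0 _ hc)
  let y : ℙn := p (IsLocalRing.closedPoint K)
  have hy : y ∈ stdOpen n K c := by
    have h1 : y ∈ (ProjMap.chart (R := K) c).opensRange := ⟨_, rfl⟩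
    exact (Proj.opensRange_awayι (CohB1.polyGrading n K) _ (ProjMap.X_mem c) one_pos).le h1
  obtain ⟨b, hb⟩ := Opens.mem_iSup.1 ((iSup_stdOpen n K).ge (Opens.mem_top (g y)))
  let T := Twist.twistProjSpace n K 1
  let P := (Scheme.Modules.pullback g).obj T
  let H := P.presheaf.germ ⊤ y trivial (sec (pullS g (coordSec n K b)))
  let e := T.presheaf.germ ⊤ y trivial (sec (coordSec n K c))
  have hH : Function.Bijective fun r : (ℙn).presheaf.stalk y => r • H := by
    refine (mem_genLocus_iff (isInvertible_pullback g (isInvertible_twistOne n K))).1 ?_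
    rw [genLocus_pullS g (isInvertible_twistOne n K), genLocus_coordSec]
    exact hb
  have he : Function.Bijective fun r : (ℙn).presheaf.stalk y => r • e := by
    refine (mem_genLocus_iff (isInvertible_twistOne n K)).1 ?_
    rw [genLocus_coordSec]
    exact hy
  let s : (ℙn).presheaf.stalk y := ∑ a, stalkCst y (M b a) * ratioAt y c hy a
  have hr : ∀ a, T.presheaf.germ ⊤ y trivial (sec (coordSec n K a)) = ratioAt y c hy a • e := fun a => by
    have h1 := congrArg (T.presheaf.germ (stdOpen n K c) y hy) (coordRatio_smul n K c a)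
    rw [germ_smul', resT, resT, TopCat.Presheaf.germ_res_apply, TopCat.Presheaf.germ_res_apply] at h1
    exact h1.symm
  have hs : stalkLin ξ.hom y H = s • e := by
    rw [stalkLin_germ ξ.hom y (U := ⊤) trivial, hM, map_sum, Finset.sum_smul]
    refine Finset.sum_congr rfl fun a _ => ?_
    rw [germ_smul', mul_smul, hr]
    rfl
  have hu : IsUnit s := by
    refine (AmpleLib.bijective_smul_iff he s).1 ?_
    rw [← hs]
    have hcomp : (fun r : (ℙn).presheaf.stalk y => r • stalkLin ξ.hom y H) =
        stalkLin ξ.hom y ∘ fun r => r • H := funext fun r => (LinearMap.map_smul _ r _).symm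
    rw [hcomp]
    exact (stalkLin_iso_injective ξ y).comp hH
  let ψ : (ℙn).presheaf.stalk y ⟶ CommRingCat.of K := Scheme.stalkClosedPointTo p
  have hψ : Spec.map ψ ≫ (ℙn).fromSpecStalk y = p := Scheme.Spec_stalkClosedPointTo_fromSpecStalk p
  have hcst : ∀ r, ψ (stalkCst y r) = algebraMap K K r :=
    toSpec_compat ψ (by rw [hψ]; exact ProjMap.point_toSpec v c _)
  letI alg : Algebra K ((ℙn).presheaf.stalk y) := (stalkCst y).toAlgebra
  have hpt : ProjMap.point (R := K) (fun a => ψ (ratioAt y c hy a)) c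
      ((by rw [ratioAt_self]; exact isUnit_one : IsUnit (ratioAt y c hy c)).map ψ.hom) = p := by
    rw [← hψ, fromSpecStalk_eq_point y c hy]
    exact (ProjMap.specMap_point ψ.hom hcst _ c _).symm
  obtain ⟨t, ht⟩ := exists_smul_of_point_eq _ _ hpt.symm
  have h1 : ψ s = 0 := by
    show ψ.hom (∑ a, stalkCst y (M b a) * ratioAt y c hy a) = 0
    rw [map_sum, Finset.sum_congr rfl fun a _ => by
      rw [map_mul, show ψ.hom (stalkCst y (M b a)) = M b a from hcst _, ht a, mul_left_comm],
      ← Finset.mul_sum]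
    exact mul_eq_zero_of_right _ (congrFun h0 b)
  exact not_isUnit_zero (h1 ▸ hu.map ψ.hom : IsUnit (0 : K))

/-- An endomorphism over the field preserving `O(1)` is linear. -/
theorem exists_eq_Lin (g : ℙn ⟶ ℙn) (hg : g ≫ CohB1.ProjSpace.toSpec n K = CohB1.ProjSpace.toSpec n K)
    (ξ : (Scheme.Modules.pullback g).obj (Twist.twistProjSpace n K 1) ≅ Twist.twistProjSpace n K 1) :
    ∃ M : GL (Fin (n + 1)) K, g = Lin M := by
  choose M hM using fun b : Fin (n + 1) => exists_eq_sum (n := n) (K := K) (ξ.hom.app ⊤ (sec (pullS g (coordSec n K b))))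
  have hdet : IsUnit (Matrix.of M) := by
    rw [← Matrix.mulVec_injective_iff_isUnit]
    intro v w hvw
    by_contra hne
    exact mulVec_ne_zero g ξ (Matrix.of M) hM (v - w) (sub_ne_zero.2 hne)
      (by rw [Matrix.mulVec_sub, hvw, sub_self])
  obtain ⟨d, hd⟩ := Opens.mem_iSup.1 ((iSup_stdOpen n K).ge (Opens.mem_top (g (gen n K))))
  let T := Twist.twistProjSpace n K 1
  let P := (Scheme.Modules.pullback g).obj T
  let G := fun b => P.presheaf.germ ⊤ (gen n K) trivial (sec (pullS g (coordSec n K b)))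
  have hσ : ∀ b, stalkLin ξ.hom (gen n K) (G b) = lform (M b) • tau n K 0 := fun b => by
    rw [stalkLin_germ ξ.hom (gen n K) (U := ⊤) trivial, hM, map_sum, lform, Finset.sum_smul]
    refine Finset.sum_congr rfl fun a _ => ?_
    rw [germ_smul', mul_smul, ← tau_eq n K 0 a, tau, resT, TopCat.Presheaf.germ_res_apply]
    rfl
  have hrel : ∀ b, G b = g.stalkMap (gen n K) (ratioAt (g (gen n K)) d hd b) • G d := fun b => by
    refine (coord_pullback_ratio g d b (gen n K) hd).trans ?_
    congr 1
    exact (Scheme.Hom.germ_stalkMap_apply g _ _ hd _).symm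
  have hne : lform (M d) ≠ 0 := by
    intro h0
    have hb : Function.Bijective fun r : (ℙn).presheaf.stalk (gen n K) => r • G d := by
      refine (mem_genLocus_iff (isInvertible_pullback g (isInvertible_twistOne n K))).1 ?_
      rw [genLocus_pullS g (isInvertible_twistOne n K), genLocus_coordSec]
      exact hd
    have h1 : G d = 0 := (stalkLin_iso_injective ξ (gen n K)).1 (by rw [hσ, h0, zero_smul, map_zero])
    exact zero_ne_one (hb.1 (show (0 : _) • G d = 1 • G d by rw [h1, smul_zero, smul_zero]))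
  have hlin : ∀ b, lform (M b) = g.stalkMap (gen n K) (ratioAt (g (gen n K)) d hd b) * lform (M d) :=
    fun b => (bijective_tau n K 0).1 (by
      show lform (M b) • tau n K 0 = (_ * lform (M d)) • tau n K 0
      rw [← hσ, hrel, map_smul, hσ, smul_smul])
  letI alg : Algebra K ((ℙn).presheaf.stalk (gen n K)) := (stalkCst (gen n K)).toAlgebra
  letI alg' : Algebra K ((ℙn).presheaf.stalk (g (gen n K))) := (stalkCst (g (gen n K))).toAlgebra
  have hcompat : ∀ r, g.stalkMap (gen n K) (algebraMap K _ r) = algebraMap K _ r := fun r => by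
    have h := congrArg (fun m : Spec ((ℙn).presheaf.stalk (gen n K)) ⟶ ℙn => m ≫ CohB1.ProjSpace.toSpec n K)
      (Scheme.SpecMap_stalkMap_fromSpecStalk g (x := gen n K))
    simp only [Category.assoc, hg, fromSpecStalk_toSpec, ← Spec.map_comp] at h
    exact DFunLike.congr_fun (congrArg CommRingCat.Hom.hom (Spec.map_injective h)) r
  have hgp : (ℙn).fromSpecStalk (gen n K) ≫ g = ProjMap.point (R := K)
      (fun b => g.stalkMap (gen n K) (ratioAt (g (gen n K)) d hd b)) d
      (by rw [ratioAt_self, map_one]; exact isUnit_one) := by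
    rw [← Scheme.SpecMap_stalkMap_fromSpecStalk, fromSpecStalk_eq_point _ d hd]
    exact ProjMap.specMap_point (g.stalkMap (gen n K)).hom hcompat _ d _
  refine ⟨hdet.unit, ext_gen hg (toSpec_Lin _) ?_⟩
  rw [hgp, fromSpecStalk_eq_point _ 0 (gen_mem n K),
    point_Lin hdet.unit _ 0 _ (fun b => lform (M b)) ?_ d (IsUnit.mk0 _ hne)]
  · refine (ProjMap.point_smul _ _ (lform (M d)) (fun b => ?_) d _ _).symm
    rw [hlin b]; ring
  · funext b
    rfl

/-- An endomorphism over the field preserving `O(1)` is an automorphism. -/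
theorem isIso_of_pullback_twist (g : ℙn ⟶ ℙn) (hg : g ≫ CohB1.ProjSpace.toSpec n K = CohB1.ProjSpace.toSpec n K)
    (hξ : Nonempty ((Scheme.Modules.pullback g).obj (Twist.twistProjSpace n K 1) ≅ Twist.twistProjSpace n K 1)) :
    IsIso g := by
  obtain ⟨ξ⟩ := hξ
  obtain ⟨M, rfl⟩ := exists_eq_Lin g hg ξ
  refine ⟨Lin M⁻¹, ?_, ?_⟩
  · rw [← Lin_mul, inv_mul_cancel, Lin_one]
  · rw [← Lin_mul, mul_inv_cancel, Lin_one]

end Groth.Agent.FibBundleLib
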