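import Groth.Agent.FibBundleLib.Apply
import Groth.Agent.FibBundleLib.Over
import Groth.Agent.FlatLocus.PointScheme
import Groth.Agent.JacLib.RelDim

/-!
# Surfaces fibred in projective lines over closed points
-/

set_option autoImplicit false
set_option backward.isDefEq.respectTransparency false
set_option backward.isDefEq.respectTransparency.types false
set_option linter.style.haveILetI false
set_option linter.unusedSectionVars false
set_option maxHeartbeats 1600000
set_option synthInstance.maxHeartbeats 200000

universe u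

open CategoryTheory CategoryTheory.Limits AlgebraicGeometry TopologicalSpace Opposite

noncomputable section

namespace Groth.Agent.FibBundleLib

/-- Smooth with integral one-dimensional closed fibres is smooth of relative dimension one. -/
theorem smoothRelDimOne_of_closed {C S : Scheme.{u}} (f : C ⟶ S) [IsProper f] [Smooth f] [JacobsonSpace C]
    (h : ∀ s : S, IsClosed ({s} : Set S) → IsIntegral (f.fiber s) ∧ topologicalKrullDim ↥(f.fiber s) = 1) :
    SmoothOfRelativeDimension 1 f := by
  refine ⟨fun x => ?_⟩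
  obtain ⟨U, hU, V, hV, hxV, e, hs⟩ := Smooth.exists_isStandardSmooth f x
  obtain ⟨n, hn⟩ : ∃ n, RingHom.IsStandardSmoothOfRelativeDimension n (f.appLE U V e).hom := by
    algebraize [(f.appLE U V e).hom]
    obtain ⟨ι, σ, i1, i2, ⟨P⟩⟩ := Algebra.IsStandardSmooth.out (R := Γ(S, U)) (S := Γ(C, V))
    exact ⟨P.dimension, P.isStandardSmoothOfRelativeDimension rfl⟩
  let g := V.ι ≫ f
  haveI : SmoothOfRelativeDimension n g := by
    haveI : IsAffine V.toScheme := hV
    refine ⟨fun v => ⟨U, hU, ⊤, isAffineOpen_top _, trivial, fun w _ => e w.2, ?_⟩⟩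
    have : g.appLE U ⊤ (fun w _ => e w.2) = f.appLE U V e ≫ V.topIso.inv := by
      simp only [g, Scheme.Hom.appLE, Scheme.Hom.comp_app, Scheme.Opens.ι_app, Category.assoc,
        Scheme.Opens.topIso_inv]
      erw [← C.presheaf.map_comp, ← C.presheaf.map_comp]
      congr 1
    rw [this]
    exact RingHom.isStandardSmoothOfRelativeDimension_respectsIso.1 _ V.topIso.symm.commRingCatIsoToRingEquiv hn
  obtain ⟨x', hx'V, hx'c⟩ := nonempty_inter_closedPoints (Z := (V : Set C)) ⟨x, hxV⟩ V.2.isLocallyClosed
  let s := f x'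
  have hsc : IsClosed ({s} : Set S) := by
    have h1 := f.isClosedMap _ hx'c
    rwa [Set.image_singleton] at h1
  obtain ⟨hint, hdim⟩ := h s hsc
  haveI := smoothOfRelativeDimension_isStableUnderBaseChange (n := n)
  haveI : SmoothOfRelativeDimension n (g.fiberToSpecResidueField s) :=
    MorphismProperty.pullback_snd (P := @SmoothOfRelativeDimension n) g (S.fromSpecResidueField s) inferInstance
  let F := f.fiber s
  haveI : IsIntegral F := hint
  haveI : Smooth (f.fiberToSpecResidueField s) :=
    MorphismProperty.pullback_snd f (S.fromSpecResidueField s) inferInstance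
  haveI : JacobsonSpace F := LocallyOfFiniteType.jacobsonSpace (f.fiberToSpecResidueField s)
  let ι : g.fiber s ⟶ F := pullback.map g _ f _ V.ι (𝟙 _) (𝟙 _) (by simp [g]) (by simp)
  haveI : IsOpenImmersion ι := by
    have h1 : IsPullback ι (g.fiberι s) (f.fiberι s) V.ι := by
      refine IsPullback.flip (IsPullback.of_bot ?_ (pullback.lift_fst _ _ _).symm (IsPullback.of_hasPullback f (S.fromSpecResidueField s)))
      have hι : ι ≫ f.fiberToSpecResidueField s = g.fiberToSpecResidueField s :=
        (pullback.lift_snd _ _ _).trans (Category.comp_id _)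
      erw [hι]
      exact IsPullback.of_hasPullback g (S.fromSpecResidueField s)
    exact MorphismProperty.of_isPullback (P := @IsOpenImmersion) h1.flip inferInstance
  obtain ⟨y, hy⟩ : (Set.univ : Set ↥(g.fiber s)).Nonempty :=
    ⟨g.asFiber ⟨x', hx'V⟩, trivial⟩
  have key : ∀ W : Opens ↥(g.fiber s), y ∈ W → topologicalKrullDim (W : Set ↥(g.fiber s)) = 1 := by
    intro W hyW
    let O : Opens F := ι ''ᵁ W
    have e₁ : ↥(W : Set ↥(g.fiber s)) ≃ₜ ↥(O : Set F) :=
      Scheme.Hom.homeomorph (ι.isoImage W).hom
    rw [IsHomeomorph.topologicalKrullDim_eq e₁ e₁.isHomeomorph]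
    refine le_antisymm ?_ (JacLib.one_le_dim_of_open hdim O ⟨ι y, y, hyW, rfl⟩)
    exact (Topology.IsEmbedding.subtypeVal.isInducing.topologicalKrullDim_le).trans hdim.le
  have hn1 : FlatMor.localDim ↥(g.fiber s) y = (1 : WithBot ℕ∞) := by
    refine le_antisymm ((iInf_le _ ⟨⊤, trivial⟩).trans (key ⊤ trivial).le) (le_iInf fun W => (key W.1 W.2).ge)
  rw [S2768.localDim_eq n (g.fiberToSpecResidueField s) y] at hn1
  have : n = 1 := by exact_mod_cast hn1
  subst this
  exact ⟨U, hU, V, hV, hxV, e, hn⟩

/-- A flat family with smooth closed fibres over a noetherian scheme is smooth. -/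
theorem smooth_of_closed_fibres {C S : Scheme.{u}} (f : C ⟶ S) [IsNoetherian C] [IsProper f]
    [LocallyOfFinitePresentation f] [Flat f]
    (h : ∀ s : S, IsClosed ({s} : Set S) → Smooth (f.fiberToSpecResidueField s)) : Smooth f := by
  rw [← Scheme.Hom.smoothLocus_eq_top_iff, eq_top_iff]
  intro x _
  obtain ⟨x', hx', hxx'⟩ := RuledPushLib.exists_closed_spec x
  refine hxx'.mem_open f.smoothLocus.2 ?_
  have hsc : IsClosed ({f x'} : Set S) := by
    have h1 := f.isClosedMap _ hx'
    rwa [Set.image_singleton] at h1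
  obtain ⟨z, hz⟩ : x' ∈ Set.range (f.fiberι (f x')) := by rw [f.range_fiberι]; exact rfl
  haveI := h _ hsc
  have h2 := (FlatLocus.mem_smoothLocus_iff_fibre f (f x') z).2 ⟨Flat.stalkMap f _,
    Scheme.Hom.mem_smoothLocus.1 ((f.fiberToSpecResidueField (f x')).smoothLocus_eq_top.ge trivial)⟩
  rw [← hz]
  exact h2

end Groth.Agent.FibBundleLib
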